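import Cfsg.Agent.Lib.Semisimple.SelfDual.Basic
import Cfsg.Agent.Lib.RootCount.Symp

/-!
Every palindromic monic polynomial with constant term one is the characteristic polynomial of a
semisimple element of the symplectic group.
-/

set_option autoImplicit false

namespace CfsgLib.Semisimple

open Polynomial Matrix

variable {F : Type*} [Field F]

theorem coeff_rev_self {P : F[X]} {N : ℕ} (hN : P.natDegree = N) (hP : P.reverse = P) {i : ℕ} (hi : i ≤ N) :
    P.coeff (N - i) = P.coeff i := by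
  conv_rhs => rw [← hP]
  rw [coeff_reverse, hN, revAt_le hi]

/-- A root `c = ±1` of a palindromic polynomial of even degree is at least double. -/
theorem double_root {P : F[X]} (hm : P.Monic) {n : ℕ} (hn : P.natDegree = 2 * n) (hP : P.reverse = P)
    {c : F} (hc : c = 1 ∨ c = -1) (hroot : P.eval c = 0) :
    ∃ R : F[X], P = (X - C c) * (X - C c) * R ∧ R.Monic ∧ R.natDegree + 2 = 2 * n ∧ R.reverse = R := by
  have hc2 : c * c = 1 := by rcases hc with h | h <;> simp [h]
  obtain ⟨Q, hQ⟩ := dvd_iff_isRoot.2 (show IsRoot P c from hroot)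
  have hQm : Q.Monic := (monic_X_sub_C c).of_mul_monic_left (hQ ▸ hm)
  have hQd : Q.natDegree + 1 = 2 * n := by
    rw [← hn, hQ, (monic_X_sub_C c).natDegree_mul hQm, natDegree_X_sub_C, add_comm]
  have hrev : (X - C c).reverse = C (-c) * (X - C c) := by
    rw [sub_eq_add_neg, ← map_neg, reverse_add_C, natDegree_X, pow_one]
    conv_lhs => rw [show (X : F[X]).reverse = 1 by simp [reverse]]
    rw [mul_add, ← map_mul, neg_mul_neg, hc2, map_one, add_comm]
  have hQr : Q.reverse = C (-c) * Q := by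
    have h := hP
    rw [hQ, reverse_mul_of_domain, hrev] at h
    have h2 : C (-c) * Q.reverse = Q :=
      mul_left_cancel₀ (X_sub_C_ne_zero c) (by linear_combination h)
    calc Q.reverse = C (c * c) * Q.reverse := by rw [hc2, map_one, one_mul]
      _ = C (-c) * (C (-c) * Q.reverse) := by rw [← mul_assoc, ← map_mul, neg_mul_neg]
      _ = _ := by rw [h2]
  have hQ0 : Q.eval c = 0 := by
    classical
    by_cases h1 : c = 1
    · subst h1
      rw [eval_eq_sum_range]
      refine Finset.sum_involution (fun i _ => Q.natDegree - i) (fun i hi => ?_) (fun i hi _ => ?_) ?_ ?_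
      · have := congrArg (fun p => p.coeff i) hQr
        rw [Finset.mem_range] at hi
        simp only [coeff_reverse, revAt_le (Nat.le_of_lt_succ hi), coeff_C_mul] at this
        simp [this]
      · rw [Finset.mem_range] at hi; omega
      · intro i hi; rw [Finset.mem_range] at hi ⊢; omega
      · intro i hi; rw [Finset.mem_range] at hi; omega
    · have hc' : c = -1 := hc.resolve_left h1
      have : Invertible c := invertibleOfNonzero (by simp [hc'])
      have h := eval₂_reverse_mul_pow (RingHom.id F) c Q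
      rw [invOf_eq_inv, inv_eq_of_mul_eq_one_right hc2, hQr, hc'] at h
      simp only [eval₂_id, neg_neg, map_one, one_mul] at h
      rw [Odd.neg_one_pow (Nat.odd_iff.2 (by omega))] at h
      have h2 : (2 : F) ≠ 0 := fun h2 => h1 (by rw [hc']; linear_combination -h2)
      rw [hc']
      exact (mul_eq_zero.1 (by linear_combination -h : (2 : F) * Q.eval (-1) = 0)).resolve_left h2
  obtain ⟨R, hR⟩ := dvd_iff_isRoot.2 (show IsRoot Q c from hQ0)
  have hRm : R.Monic := (monic_X_sub_C c).of_mul_monic_left (hR ▸ hQm)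
  refine ⟨R, by rw [hQ, hR, mul_assoc], hRm, ?_, ?_⟩
  · rw [← hQd, hR, (monic_X_sub_C c).natDegree_mul hRm, natDegree_X_sub_C]; omega
  · have h := hQr
    rw [hR, reverse_mul_of_domain, hrev, mul_assoc] at h
    have hc0 : C (-c) ≠ (0 : F[X]) := by rcases hc with h | h <;> simp [h]
    exact mul_left_cancel₀ (X_sub_C_ne_zero c) (mul_left_cancel₀ hc0 h)

/-- Adjoin a scalar plane to a symplectic matrix. -/
theorem exists_extend {n : ℕ} {c : F} (hc2 : c * c = 1) (M : Matrix (Fin n ⊕ Fin n) (Fin n ⊕ Fin n) F)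
    (hM : M ∈ Matrix.symplecticGroup (Fin n) F) {k : ℕ} (hk : M ^ k = 1) (hck : c ^ k = 1) :
    ∃ M' ∈ Matrix.symplecticGroup (Fin (n + 1)) F,
      M' ^ k = 1 ∧ M'.charpoly = (X - C c) * (X - C c) * M.charpoly := by
  let e : (Fin (n + 1) ⊕ Fin (n + 1)) ≃ (Fin 1 ⊕ Fin 1) ⊕ (Fin n ⊕ Fin n) :=
    ((finCongr (by omega)).trans finSumFinEquiv.symm).sumCongr ((finCongr (by omega)).trans finSumFinEquiv.symm)
      |>.trans (Equiv.sumSumSumComm _ _ _ _)
  let φ := Matrix.reindexAlgEquiv F F e.symm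
  let N := Matrix.fromBlocks (c • (1 : Matrix (Fin 1 ⊕ Fin 1) (Fin 1 ⊕ Fin 1) F)) 0 0 M
  let J' := Matrix.fromBlocks (J (Fin 1) F) 0 0 (J (Fin n) F)
  have hJ : φ J' = J (Fin (n + 1)) F := by
    have : ∀ (m : ℕ) (x y : Fin m ⊕ Fin m), J (Fin m) F x y =
        Matrix.fromBlocks 0 (-1) 1 0 x y := fun _ _ _ => rfl
    have h2 : J' = (J (Fin (n + 1)) F).submatrix e.symm e.symm := by
      ext x y
      rcases x with (x | x) | (x | x) <;> rcases y with (y | y) | (y | y) <;>
        simp [J', e, this, Matrix.one_apply, Fin.ext_iff] <;> omega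
    rw [h2]
    ext x y
    simp [φ]
  refine ⟨φ N, ?_, ?_, ?_⟩
  · have ht : (φ N)ᵀ = φ Nᵀ := rfl
    rw [SymplecticGroup.mem_iff, ht, ← hJ, ← map_mul, ← map_mul]
    congr 1
    simp [N, J', Matrix.fromBlocks_transpose, Matrix.fromBlocks_multiply, SymplecticGroup.mem_iff.1 hM,
      smul_smul, hc2]
  · rw [← map_pow]
    convert map_one φ
    simp [N, Matrix.fromBlocks_diagonal_pow, hk, _root_.smul_pow, hck]
  · show (Matrix.reindex e.symm e.symm N).charpoly = _
    rw [Matrix.charpoly_reindex, Matrix.charpoly_fromBlocks_zero₁₂]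
    congr 1
    rw [Matrix.smul_one_eq_diagonal, Matrix.charpoly_diagonal, Finset.prod_const, Finset.card_univ]
    simp [pow_two]

variable [Fintype F] (p : ℕ) [Fact p.Prime] [CharP F p]

include p in
/-- Without roots `±1`, realisation by an invariant alternating form. -/
theorem exists_symplectic_fpf {n : ℕ} (P : F[X]) (hm : P.Monic) (hn : P.natDegree = 2 * n)
    (h0 : P.coeff 0 = 1) (hP : P.reverse = P) (h1 : P.eval 1 ≠ 0) (h2 : P.eval (-1) ≠ 0) :
    ∃ M ∈ Matrix.symplecticGroup (Fin n) F, ∃ k : ℕ, (k : F) ≠ 0 ∧ M ^ k = 1 ∧ M.charpoly = P := by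
  classical
  obtain ⟨M₀, k, hk, hMk₀, hMP₀⟩ := exists_charpoly P hm
    (by rw [← coeff_zero_eq_eval_zero, h0]; exact one_ne_zero) hn
  let e : Fin (2 * n) ≃ Fin n ⊕ Fin n := (finCongr (two_mul n)).trans finSumFinEquiv.symm
  let M := Matrix.reindexAlgEquiv F F e M₀
  have hMk : M ^ k = 1 := by rw [← map_pow, hMk₀, map_one]
  have hMP : M.charpoly = P := by rw [← hMP₀]; exact Matrix.charpoly_reindex e M₀
  have hk0 : k ≠ 0 := fun h => hk (by simp [h])
  let g : GL (Fin n ⊕ Fin n) F := Units.ofPowEqOne M k hMk hk0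
  have hg : (g : Matrix (Fin n ⊕ Fin n) (Fin n ⊕ Fin n) F) = M := rfl
  have hgk : g ^ k = 1 := Units.pow_ofPowEqOne hMk hk0
  let gt : GL (Fin n ⊕ Fin n) F :=
    ⟨Mᵀ, ((g⁻¹ : GL (Fin n ⊕ Fin n) F) : Matrix (Fin n ⊕ Fin n) (Fin n ⊕ Fin n) F)ᵀ,
      by rw [← transpose_mul, ← hg, ← Units.val_mul, inv_mul_cancel, Units.val_one, transpose_one],
      by rw [← transpose_mul, ← hg, ← Units.val_mul, mul_inv_cancel, Units.val_one, transpose_one]⟩
  have hgtk : gt⁻¹ ^ k = 1 := by
    rw [inv_pow, inv_eq_one]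
    exact Units.ext (show Mᵀ ^ k = 1 by rw [← transpose_pow, hMk, transpose_one])
  have hchar : (g : Matrix (Fin n ⊕ Fin n) (Fin n ⊕ Fin n) F).charpoly =
      ((gt⁻¹ : GL (Fin n ⊕ Fin n) F) : Matrix (Fin n ⊕ Fin n) (Fin n ⊕ Fin n) F).charpoly := by
    rw [Matrix.coe_units_inv, charpoly_inv_reverse _ ((Matrix.isUnit_iff_isUnit_det _).1 gt.isUnit).ne_zero]
    show M.charpoly = C (Mᵀ.charpoly.coeff 0)⁻¹ * Mᵀ.charpoly.reverse
    rw [charpoly_transpose, hMP, h0, hP, inv_one, map_one, one_mul]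
  obtain ⟨c, hc⟩ := exists_conj_of_charpoly_eq p g gt⁻¹ hk hgk hgtk hchar
  have hS : gt * c * g = c := by rw [mul_assoc, hc, mul_inv_cancel_left]
  let S := Matrix.toBilin' (c : Matrix (Fin n ⊕ Fin n) (Fin n ⊕ Fin n) F)
  let A := (Matrix.GeneralLinearGroup.toLin g).toLinearEquiv
  have hA : ∀ x, A x = M *ᵥ x := fun x => by simp [A, hg]
  have hSA : ∀ x y, S (A x) (A y) = S x y := fun x y => by
    simp only [S, hA, CfsgLib.RootCount.toBilin'_mulVec]
    rw [show Mᵀ * (c : Matrix (Fin n ⊕ Fin n) (Fin n ⊕ Fin n) F) * M = c from congrArg Units.val hS]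
  have hker : ∀ (d : F), P.eval d ≠ 0 → ∀ x, A x = d • x → x = 0 := fun d hd x hx => by
    have hu : IsUnit (Matrix.scalar (Fin n ⊕ Fin n) d - M) := by
      rw [Matrix.isUnit_iff_isUnit_det, ← Matrix.eval_charpoly, hMP, isUnit_iff_ne_zero]
      exact hd
    refine Matrix.mulVec_injective_iff_isUnit.2 hu (?_ : _ *ᵥ x = _ *ᵥ (0 : Fin n ⊕ Fin n → F))
    rw [Matrix.sub_mulVec, ← hA, hx, Matrix.mulVec_zero, Matrix.scalar_apply, ← Matrix.smul_one_eq_diagonal,
      Matrix.smul_mulVec, Matrix.one_mulVec, sub_self]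
  have hAA : ∀ x, A (A x) = x → x = 0 := fun x hx => by
    have hy : A x + x = 0 := hker 1 h1 _ (by rw [map_add, hx, one_smul, add_comm])
    exact hker (-1) h2 x (by rw [neg_one_smul]; exact eq_neg_of_add_eq_zero_left hy)
  obtain ⟨B, hBs, hBn, hBA⟩ := CfsgLib.RootCount.exists_symm_form A hAA (-1) (by ring) S
    (CfsgLib.RootCount.toBilin'_nondeg _ c.isUnit) hSA
  have hBalt : B.IsAlt := CfsgLib.RootCount.isAlt_of_skew A (fun x hx => hker 1 h1 x (by rw [hx, one_smul])) B
    (fun x y => by rw [hBs]; ring) hBA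
  have hJu : IsUnit (J (Fin n) F) := (Matrix.isUnit_iff_isUnit_det _).mpr (Matrix.isUnit_det_J (Fin n) F)
  have hJalt : (Matrix.toBilin' (J (Fin n) F)).IsAlt := fun u => by
    simp [Matrix.toBilin'_apply', Matrix.J, dotProduct, Matrix.mulVec, Fintype.sum_sum_type, Matrix.one_apply, mul_comm]
  obtain ⟨f, hf⟩ := CfsgLib.RootCount.alt_equiv B (Matrix.toBilin' (J (Fin n) F)) hBalt hJalt hBn
    (CfsgLib.RootCount.toBilin'_nondeg _ hJu) rfl
  let N : Matrix (Fin n ⊕ Fin n) (Fin n ⊕ Fin n) F := LinearMap.toMatrixAlgEquiv' (f.conj (Matrix.toLin' M))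
  have hN : ∀ x, N *ᵥ x = f (A (f.symm x)) := fun x => by
    simp [N, hA, LinearEquiv.conj_apply, LinearMap.toMatrixAlgEquiv', LinearMap.toMatrix'_mulVec]
  refine ⟨N, (CfsgLib.RootCount.mem_symplectic_iff_form N).2 fun u v => ?_, k, hk, ?_, ?_⟩
  · rw [hN, hN, hf, hBA, ← hf, LinearEquiv.apply_symm_apply, LinearEquiv.apply_symm_apply]
  · have hpow : (f.conj (Matrix.toLin' M)) ^ k = f.conj ((Matrix.toLin' M) ^ k) :=
      (map_pow (f.conjAlgEquiv F) (Matrix.toLin' M) k).symm
    rw [← map_pow, hpow, ← Matrix.toLin'_pow, hMk, Matrix.toLin'_one]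
    exact (congrArg LinearMap.toMatrixAlgEquiv' (map_one (f.conjAlgEquiv F))).trans (map_one _)
  · show (LinearMap.toMatrix' (f.conj (Matrix.toLin' M))).charpoly = P
    rw [← Matrix.charpoly_toLin', Matrix.toLin'_toMatrix', LinearEquiv.charpoly_conj, Matrix.charpoly_toLin', hMP]

include p in
/-- Realisation of all palindromic polynomials. -/
theorem exists_symplectic_charpoly : ∀ (n : ℕ) (P : F[X]), P.Monic → P.natDegree = 2 * n →
    P.coeff 0 = 1 → P.reverse = P →
    ∃ M ∈ Matrix.symplecticGroup (Fin n) F, ∃ k : ℕ, (k : F) ≠ 0 ∧ M ^ k = 1 ∧ M.charpoly = P := by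
  intro n
  induction n with
  | zero =>
    intro P hm hn _ _
    refine ⟨1, one_mem _, 1, by simp, one_pow _, ?_⟩
    rw [hm.natDegree_eq_zero.1 hn]
    simp [Matrix.charpoly]
  | succ n ih =>
    intro P hm hn h0 hP
    have step : ∀ c : F, c = 1 ∨ c = -1 → P.eval c = 0 → (c = 1 ∨ (2 : F) ≠ 0) →
        ∃ M ∈ Matrix.symplecticGroup (Fin (n + 1)) F, ∃ k : ℕ, (k : F) ≠ 0 ∧ M ^ k = 1 ∧ M.charpoly = P := by
      intro c hc hroot hchar
      have hc2 : c * c = 1 := by rcases hc with h | h <;> simp [h]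
      obtain ⟨R, hPR, hRm, hRd, hRr⟩ := double_root hm hn hP hc hroot
      have hR0 : R.coeff 0 = 1 := by
        rw [hPR, mul_coeff_zero, mul_coeff_zero] at h0
        simpa [hc2] using h0
      obtain ⟨M, hM, k, hk, hMk, hMR⟩ := ih R hRm (by omega) hR0 hRr
      rcases hchar with rfl | h2
      · obtain ⟨M', hM', hk', hch⟩ := exists_extend hc2 M hM hMk (one_pow k)
        exact ⟨M', hM', k, hk, hk', by rw [hch, hMR, hPR]⟩
      · obtain ⟨M', hM', hk', hch⟩ := exists_extend hc2 M hM (k := 2 * k)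
          (by rw [mul_comm, pow_mul, hMk, one_pow]) (by rw [pow_mul, pow_two, hc2, one_pow])
        exact ⟨M', hM', 2 * k, by push_cast; exact mul_ne_zero h2 hk, hk', by rw [hch, hMR, hPR]⟩
    by_cases h1 : P.eval 1 = 0
    · exact step 1 (Or.inl rfl) h1 (Or.inl rfl)
    by_cases h2 : P.eval (-1) = 0
    · refine step (-1) (Or.inr rfl) h2 (Or.inr fun h => h1 ?_)
      rwa [show (1 : F) = -1 by linear_combination h]
    · exact exists_symplectic_fpf p P hm hn h0 hP h1 h2

/-- The characteristic polynomial of a symplectic matrix is palindromic with constant term one. -/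
theorem symplectic_charpoly {n : ℕ} (M : Matrix (Fin n ⊕ Fin n) (Fin n ⊕ Fin n) F)
    (hM : M ∈ Matrix.symplecticGroup (Fin n) F) :
    M.charpoly.coeff 0 = 1 ∧ M.charpoly.reverse = M.charpoly := by
  have hd := SymplecticGroup.det_eq_one hM
  have h0 : M.charpoly.coeff 0 = 1 := by
    have h := det_eq_sign_charpoly_coeff M
    rw [hd, Fintype.card_sum, Fintype.card_fin, ← two_mul, pow_mul, neg_one_sq, one_pow, one_mul] at h
    exact h.symm
  refine ⟨h0, ?_⟩
  have hinv : M⁻¹ = (J (Fin n) F)⁻¹ * Mᵀ * J (Fin n) F := by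
    rw [SymplecticGroup.inv_eq_symplectic_inv M hM, Matrix.J_inv]
  have h := charpoly_inv_reverse M (by rw [hd]; exact one_ne_zero)
  have hu : IsUnit (J (Fin n) F) := (Matrix.isUnit_iff_isUnit_det _).mpr (Matrix.isUnit_det_J (Fin n) F)
  obtain ⟨u, hu⟩ := hu
  rw [hinv, ← hu] at h
  rw [Matrix.charpoly_units_conj' u Mᵀ, Matrix.charpoly_transpose, h0, inv_one, map_one, one_mul] at h
  exact h.symm

end CfsgLib.Semisimple
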