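import Cfsg.Agent.Lib.Semisimple.Classes

/-!
Characteristic polynomials of inverses, and coprimality of orders from an annihilating exponent.
-/

set_option autoImplicit false

namespace CfsgLib.Semisimple

open Polynomial Matrix

variable {F : Type*} [Field F] {ι : Type*} [Fintype ι] [DecidableEq ι]

/-- The characteristic polynomial of the inverse is the normalised reverse. -/
theorem charpoly_inv_reverse (M : Matrix ι ι F) (h : M.det ≠ 0) :
    M⁻¹.charpoly = C (M.charpoly.coeff 0)⁻¹ * M.charpoly.reverse := by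
  rw [charpoly_inv M ((isUnit_iff_isUnit_det M).2 (isUnit_iff_ne_zero.2 h)), reverse_charpoly,
    Ring.inverse_eq_inv']
  have h1 : (M.charpoly.coeff 0)⁻¹ = (-1) ^ Fintype.card ι * M.det⁻¹ := by
    have := det_eq_sign_charpoly_coeff M
    rw [this, mul_inv, ← mul_assoc, ← inv_pow, inv_neg_one, ← mul_pow, neg_one_mul, neg_neg, one_pow, one_mul]
  rw [h1, map_mul, map_pow, map_neg, map_one]

theorem coprime_of_pow_eq_one (p : ℕ) [Fact p.Prime] [CharP F p] {G : Type*} [Monoid G] (g : G) {k : ℕ}
    (hk : (k : F) ≠ 0) (hg : g ^ k = 1) : (orderOf g).Coprime p := by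
  refine Nat.Coprime.coprime_dvd_left (orderOf_dvd_of_pow_eq_one hg) ?_
  rw [Nat.coprime_comm, (Fact.out : p.Prime).coprime_iff_not_dvd]
  exact fun h => hk ((CharP.cast_eq_zero_iff F p k).2 h)

/-- Two matrices of finite order prime to the characteristic with the same characteristic polynomial are similar. -/
theorem exists_conj_of_charpoly_eq [Fintype F] (p : ℕ) [Fact p.Prime] [CharP F p] (A B : GL ι F) {k : ℕ}
    (hk : (k : F) ≠ 0) (hA : A ^ k = 1) (hB : B ^ k = 1)
    (hc : (A : Matrix ι ι F).charpoly = (B : Matrix ι ι F).charpoly) : ∃ c : GL ι F, c * A = B * c := by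
  obtain ⟨c, hc⟩ := isConj_iff.1 (isConj_of_charpoly_eq p A B (coprime_of_pow_eq_one p A hk hA)
    (coprime_of_pow_eq_one p B hk hB) hc)
  exact ⟨c, mul_inv_eq_iff_eq_mul.1 hc⟩

end CfsgLib.Semisimple
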