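import Cfsg.Agent.Lib.Semisimple.SelfDual.Symplectic
import Cfsg.Agent.Lib.UnitaryCentralizer.Norm
import Cfsg.Agent.Lib.Conj.Unitary
import Cfsg.Prelude.Def_Classical

/-!
Semisimple classes of symplectic and special unitary groups counted by characteristic polynomials.
-/

set_option autoImplicit false

namespace CfsgLib.Semisimple

open Polynomial Matrix

variable {F : Type*} [Field F]

/-- A bijection from classes, given a class-invariant separating surjection on the semisimple elements. -/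
theorem card_classes_of_invariant {G : Type*} [Group G] {T : Type*} (Q : G → Prop) (f : G → T)
    (hf : ∀ a g : G, f (a * g * a⁻¹) = f g)
    (hsep : ∀ g h, Q g → Q h → f g = f h → IsConj g h) (hsur : ∀ t, ∃ g, Q g ∧ f g = t) :
    Nat.card {c : ConjClasses G // ∃ g, ConjClasses.mk g = c ∧ Q g} = Nat.card T := by
  let Φ : {c : ConjClasses G // ∃ g, ConjClasses.mk g = c ∧ Q g} → T := fun c => f c.2.choose
  have hΦ : ∀ (c : {c : ConjClasses G // ∃ g, ConjClasses.mk g = c ∧ Q g}) (g : G),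
      ConjClasses.mk g = c.1 → Φ c = f g := fun c g hg => by
    obtain ⟨a, ha⟩ := isConj_iff.1
      (ConjClasses.mk_eq_mk_iff_isConj.1 (hg.trans c.2.choose_spec.1.symm))
    show f c.2.choose = f g
    rw [← ha, hf]
  refine Nat.card_eq_of_bijective Φ ⟨fun c d h => Subtype.ext ?_, fun t => ?_⟩
  · rw [← c.2.choose_spec.1, ← d.2.choose_spec.1, ConjClasses.mk_eq_mk_iff_isConj]
    exact hsep _ _ c.2.choose_spec.2 d.2.choose_spec.2 h
  · obtain ⟨g, hg, hgt⟩ := hsur t
    exact ⟨⟨ConjClasses.mk g, g, rfl, hg⟩, (hΦ _ g rfl).trans hgt⟩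

variable (F) in
/-- Free coefficients of a palindromic polynomial of degree `2n`. -/
noncomputable def palPoly {n : ℕ} (v : Fin n → F) : F[X] :=
  polyOfTuple fun i : Fin (2 * n) =>
    if (i : ℕ) = 0 then 1
    else if h : (i : ℕ) ≤ n then v ⟨i - 1, by omega⟩ else v ⟨2 * n - i - 1, by omega⟩

theorem palPoly_spec [Fintype F] {n : ℕ} (v : Fin n → F) :
    (palPoly F v).Monic ∧ (palPoly F v).natDegree = 2 * n ∧ (palPoly F v).coeff 0 = 1 ∧
      (palPoly F v).reverse = palPoly F v ∧ ∀ a : Fin n, (palPoly F v).coeff (a + 1) = v a := by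
  obtain ⟨hm, hd, hc⟩ := polyOfTuple_spec (fun i : Fin (2 * n) =>
    if (i : ℕ) = 0 then 1
    else if h : (i : ℕ) ≤ n then v ⟨i - 1, by omega⟩ else v ⟨2 * n - i - 1, by omega⟩)
  have htop : (palPoly F v).coeff (2 * n) = 1 := by
    conv_lhs => rw [← hd]
    exact hm.coeff_natDegree
  have h0 : (palPoly F v).coeff 0 = 1 := by
    rcases Nat.eq_zero_or_pos n with rfl | hn
    · exact htop
    · exact (hc ⟨0, by omega⟩).trans (if_pos rfl)
  refine ⟨hm, hd, h0, ?_, fun a => ?_⟩
  · ext i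
    rw [coeff_reverse, show (palPoly F v).natDegree = 2 * n from hd]
    by_cases hi : i ≤ 2 * n
    · rw [revAt_le hi]
      rcases Nat.eq_zero_or_pos i with rfl | hi0
      · rw [h0, Nat.sub_zero, htop]
      rcases eq_or_lt_of_le hi with rfl | hlt
      · rw [Nat.sub_self, h0, htop]
      have e1 : (palPoly F v).coeff i = _ := hc ⟨i, hlt⟩
      have e2 : (palPoly F v).coeff (2 * n - i) = _ := hc ⟨2 * n - i, by omega⟩
      rw [e1, e2]
      simp only []
      split_ifs <;> first | omega | rfl | (exact congrArg v (Fin.ext (by simp <;> omega)))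
    · rw [revAt_eq_self_of_lt (by omega)]
  · have e1 : (palPoly F v).coeff (a + 1) = _ := hc ⟨a + 1, by omega⟩
    rw [e1]
    simp only []
    rw [if_neg (by omega), dif_pos (by omega)]
    rfl

/-- Semisimple classes of `Sp (2n, q)` given that they are separated by characteristic polynomials. -/
theorem card_classes_sp [Fintype F] (p : ℕ) [Fact p.Prime] [CharP F p] (n : ℕ)
    (hsep : ∀ g h : ↥(Matrix.symplecticGroup (Fin n) F), (orderOf g).Coprime p → (orderOf h).Coprime p →
      (g : Matrix (Fin n ⊕ Fin n) (Fin n ⊕ Fin n) F).charpoly = (h : Matrix (Fin n ⊕ Fin n) (Fin n ⊕ Fin n) F).charpoly →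
      IsConj g h) :
    Nat.card {c : ConjClasses ↥(Matrix.symplecticGroup (Fin n) F) //
      ∃ g : ↥(Matrix.symplecticGroup (Fin n) F), ConjClasses.mk g = c ∧ (orderOf g).Coprime p} =
      Fintype.card F ^ n := by
  rw [card_classes_of_invariant (fun g : ↥(Matrix.symplecticGroup (Fin n) F) => (orderOf g).Coprime p)
    (fun g (a : Fin n) => (g : Matrix (Fin n ⊕ Fin n) (Fin n ⊕ Fin n) F).charpoly.coeff (a + 1)) ?_ ?_ ?_]
  · simp [Nat.card_eq_fintype_card]
  · intro a g
    let j : ↥(Matrix.symplecticGroup (Fin n) F) →* GL (Fin n ⊕ Fin n) F :=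
      CfsgLib.RootCount.spHom n F
    have hj : ∀ x, ((j x : GL (Fin n ⊕ Fin n) F) : Matrix (Fin n ⊕ Fin n) (Fin n ⊕ Fin n) F) = x.1 := fun x => rfl
    funext i
    rw [← hj (a * g * a⁻¹), map_mul, map_mul, map_inv, Units.val_mul, Units.val_mul, Matrix.coe_units_inv,
      Matrix.charpoly_units_conj, hj]
  · intro g h hg hh hgh
    refine hsep g h hg hh ?_
    have hdeg : ∀ x : ↥(Matrix.symplecticGroup (Fin n) F),
        (x : Matrix (Fin n ⊕ Fin n) (Fin n ⊕ Fin n) F).charpoly.natDegree = 2 * n := fun x => by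
      rw [charpoly_natDegree_eq_dim, Fintype.card_sum, Fintype.card_fin, two_mul]
    obtain ⟨g0, gr⟩ := symplectic_charpoly g.1 g.2
    obtain ⟨h0, hr⟩ := symplectic_charpoly h.1 h.2
    refine eq_of_coeff_eq (charpoly_monic _) (charpoly_monic _) (hdeg g) (hdeg h) fun i => ?_
    have key : ∀ j : ℕ, j ≤ n → g.1.charpoly.coeff j = h.1.charpoly.coeff j := fun j hj => by
      rcases j with _ | j
      · rw [g0, h0]
      · exact congrFun hgh ⟨j, by omega⟩
    by_cases hi : (i : ℕ) ≤ n
    · exact key _ hi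
    · rw [← coeff_rev_self (hdeg g) gr i.2.le, ← coeff_rev_self (hdeg h) hr i.2.le]
      exact key _ (by omega)
  · intro v
    obtain ⟨hm, hd, h0, hr, hv⟩ := palPoly_spec v
    obtain ⟨M, hM, k, hk, hMk, hMP⟩ := exists_symplectic_charpoly p n _ hm hd h0 hr
    exact ⟨⟨M, hM⟩, coprime_of_pow_eq_one p _ hk (Subtype.ext hMk), funext fun a => by rw [← hv a, ← hMP]⟩

variable {K : Type*} [Field K] [Fintype K] {q n : ℕ}

/-- Semisimple classes of `SU (n, q)` given that they are separated by characteristic polynomials. -/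
theorem card_classes_su (hK : Fintype.card K = q ^ 2) (p : ℕ) [Fact p.Prime] [CharP K p] (hn : 1 ≤ n)
    (hsep : ∀ g h : ↥(Cfsg.SU n K q), (orderOf g).Coprime p → (orderOf h).Coprime p →
      ((g : Matrix.SpecialLinearGroup (Fin n) K) : Matrix (Fin n) (Fin n) K).charpoly =
        ((h : Matrix.SpecialLinearGroup (Fin n) K) : Matrix (Fin n) (Fin n) K).charpoly → IsConj g h) :
    Nat.card {c : ConjClasses ↥(Cfsg.SU n K q) //
      ∃ g : ↥(Cfsg.SU n K q), ConjClasses.mk g = c ∧ (orderOf g).Coprime p} = q ^ (n - 1) := by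
  classical
  obtain ⟨φ, hφq, hφ, hw⟩ := CfsgLib.Conj.exists_frob hK
  obtain ⟨w, hw'⟩ := hw
  let ct : Matrix (Fin n) (Fin n) K →+ Matrix (Fin n) (Fin n) K := CfsgLib.Conj.conjT (n := n) φ
  have hsgn : ∀ m : ℕ, φ ((-1) ^ m) = (-1) ^ m := fun m => by rw [map_pow, map_neg, map_one]
  -- the symmetry of the coefficients
  have hsym : ∀ (g : ↥(Cfsg.SU n K q)) (i : ℕ), i ≤ n →
      (g.1.1).charpoly.coeff i = (-1) ^ n * φ ((g.1.1).charpoly.coeff (n - i)) ∧
      (g.1.1).charpoly.coeff 0 = (-1) ^ n := by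
    intro g i hi
    set M : Matrix (Fin n) (Fin n) K := g.1.1
    have hdet : M.det = 1 := g.1.2
    have h0 : M.charpoly.coeff 0 = (-1) ^ n := by
      have h := det_eq_sign_charpoly_coeff M
      rw [hdet, Fintype.card_fin] at h
      calc M.charpoly.coeff 0 = (-1) ^ n * ((-1) ^ n * M.charpoly.coeff 0) := by
            rw [← mul_assoc, ← mul_pow]; simp
        _ = (-1) ^ n := by rw [← h, mul_one]
    refine ⟨?_, h0⟩
    have hU : ct M * M = 1 :=
      (CfsgLib.Conj.mem_GU_iff φ hφq hφ (Matrix.SpecialLinearGroup.toGL g.1)).1 g.2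
    have hinv : M⁻¹ = ct M := Matrix.inv_eq_left_inv hU
    have h := charpoly_inv_reverse M (by rw [hdet]; exact one_ne_zero)
    rw [hinv, show ct M = (M.map φ)ᵀ from rfl, charpoly_transpose, Matrix.charpoly_map, h0] at h
    have hc := congrArg (fun P => P.coeff (n - i)) h
    simp only [Polynomial.coeff_map, coeff_C_mul, coeff_reverse, charpoly_natDegree_eq_dim, Fintype.card_fin,
      revAt_le (Nat.sub_le n i), Nat.sub_sub_self hi] at hc
    rw [hc, ← mul_assoc, mul_inv_cancel₀ (pow_ne_zero _ (neg_ne_zero.2 one_ne_zero)), one_mul]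
  let T := {d : Fin (n - 1) → K // ∀ a, φ (d a.rev) = d a}
  let f : ↥(Cfsg.SU n K q) → T := fun g =>
    ⟨fun a => (-1) ^ ((a : ℕ) + 1) * (g.1.1).charpoly.coeff (n - (a + 1)), fun a => by
      obtain ⟨h, -⟩ := hsym g (n - ((a.rev : ℕ) + 1)) (Nat.sub_le _ _)
      simp only [Fin.val_rev] at h ⊢
      have e1 : n - (n - 1 - (↑a + 1) + 1) = a + 1 := by omega
      rw [e1] at h ⊢
      obtain ⟨h', -⟩ := hsym g (n - (a + 1)) (Nat.sub_le _ _)
      rw [show n - (n - (↑a + 1)) = a + 1 by omega] at h'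
      rw [map_mul, hsgn, h', ← mul_assoc, ← pow_add]
      congr 1
      refine neg_one_pow_congr ?_
      constructor <;> intro he <;> rw [Nat.even_iff] at he ⊢ <;> omega⟩
  rw [card_classes_of_invariant (fun g : ↥(Cfsg.SU n K q) => (orderOf g).Coprime p) f ?_ ?_ ?_,
    CfsgLib.UnitaryCentralizer.card_fixed_fun φ hφ hw' (q := q) (by rw [Nat.card_eq_fintype_card, hK])
      Fin.rev Fin.rev_rev, Nat.card_eq_fintype_card, Fintype.card_fin]
  · intro a g
    refine Subtype.ext (funext fun i => ?_)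
    show _ * (((a * g * a⁻¹).1.1).charpoly.coeff _) = _ * ((g.1.1).charpoly.coeff _)
    have e : ((a * g * a⁻¹).1.1).charpoly = (g.1.1).charpoly :=
      charpoly_conj_GL (Matrix.SpecialLinearGroup.toGL a.1) (Matrix.SpecialLinearGroup.toGL g.1) |> fun h => by
        rwa [← map_inv, ← map_mul, ← map_mul] at h
    rw [e]
  · intro g h hg hh hgh
    refine hsep g h hg hh ?_
    refine eq_of_coeff_eq (charpoly_monic _) (charpoly_monic _)
      (by rw [charpoly_natDegree_eq_dim, Fintype.card_fin]) (by rw [charpoly_natDegree_eq_dim, Fintype.card_fin])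
      fun i => ?_
    rcases Nat.eq_zero_or_pos (i : ℕ) with hi | hi
    · rw [hi, (hsym g 0 (Nat.zero_le _)).2, (hsym h 0 (Nat.zero_le _)).2]
    · have := congrFun (congrArg Subtype.val hgh) ⟨n - i - 1, by omega⟩
      simp only [f] at this
      rw [show n - (n - (i : ℕ) - 1 + 1) = i by omega] at this
      exact mul_left_cancel₀ (pow_ne_zero _ (neg_ne_zero.2 one_ne_zero)) this
  · intro d
    let v : Fin n → K := fun i =>
      if h : (i : ℕ) = 0 then (-1) ^ n else (-1) ^ (n - (i : ℕ)) * d.1 ⟨n - i - 1, by omega⟩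
    obtain ⟨hm, hd, hc⟩ := polyOfTuple_spec v
    have h0 : (polyOfTuple v).coeff 0 = (-1) ^ n := by simpa [v] using hc ⟨0, hn⟩
    obtain ⟨M, k, hk, hMk, hMP⟩ := exists_charpoly (polyOfTuple v) hm
      (by rw [← coeff_zero_eq_eval_zero, h0]; simp) hd
    have hk0 : k ≠ 0 := fun h => hk (by simp [h])
    let A : GL (Fin n) K := Units.ofPowEqOne M k hMk hk0
    let ctA : GL (Fin n) K := ⟨ct M, ct ↑A⁻¹, by
      rw [← CfsgLib.Conj.conjT_mul, show M = (A : Matrix (Fin n) (Fin n) K) from rfl, ← Units.val_mul,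
        inv_mul_cancel, Units.val_one, CfsgLib.Conj.conjT_one], CfsgLib.Conj.conjT_units φ A⟩
    have hctk : ctA⁻¹ ^ k = 1 := by
      rw [inv_pow, inv_eq_one]
      refine Units.ext ?_
      show ((M.map φ)ᵀ) ^ k = 1
      rw [← transpose_pow]
      show ((φ.mapMatrix M) ^ k)ᵀ = 1
      rw [← map_pow, hMk, map_one, transpose_one]
    have hchar : (A : Matrix (Fin n) (Fin n) K).charpoly =
        ((ctA⁻¹ : GL (Fin n) K) : Matrix (Fin n) (Fin n) K).charpoly := by
      rw [Matrix.coe_units_inv, charpoly_inv_reverse _ ((Matrix.isUnit_iff_isUnit_det _).1 ctA.isUnit).ne_zero]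
      show M.charpoly = C ((M.map φ)ᵀ.charpoly.coeff 0)⁻¹ * (M.map φ)ᵀ.charpoly.reverse
      rw [charpoly_transpose, Matrix.charpoly_map, hMP, Polynomial.coeff_map, h0, hsgn, ← inv_pow, inv_neg_one]
      ext i
      rw [coeff_C_mul, coeff_reverse, natDegree_map, hd, Polynomial.coeff_map]
      have htop : (polyOfTuple v).coeff n = 1 :=
        (congrArg (polyOfTuple v).coeff hd).symm.trans hm.coeff_natDegree
      rcases lt_trichotomy i n with hlt | rfl | hgt
      · rw [revAt_le hlt.le]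
        rcases Nat.eq_zero_or_pos i with rfl | hi
        · rw [Nat.sub_zero, htop, map_one, mul_one, h0]
        have e1 : (polyOfTuple v).coeff i = _ := hc ⟨i, hlt⟩
        have e2 : (polyOfTuple v).coeff (n - i) = _ := hc ⟨n - i, by omega⟩
        have := d.2 ⟨n - i - 1, by omega⟩
        rw [show Fin.rev (⟨n - i - 1, by omega⟩ : Fin (n - 1)) = ⟨i - 1, by omega⟩ from
          Fin.ext (by simp [Fin.val_rev]; omega)] at this
        rw [e1, e2]
        simp only [v]
        rw [dif_neg (by omega), dif_neg (by omega), map_mul, hsgn, ← mul_assoc, ← pow_add]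
        have e3 : (⟨n - (n - i) - 1, by omega⟩ : Fin (n - 1)) = ⟨i - 1, by omega⟩ := Fin.ext (by simp only []; omega)
        rw [e3, this]
        congr 1
        refine neg_one_pow_congr ?_
        constructor <;> intro he <;> rw [Nat.even_iff] at he ⊢ <;> omega
      · rw [revAt_le le_rfl, Nat.sub_self, htop, h0, hsgn, ← mul_pow]; simp
      · rw [revAt_eq_self_of_lt hgt, coeff_eq_zero_of_natDegree_lt (hd.trans_lt hgt), map_zero, mul_zero]
    obtain ⟨S, hS⟩ := exists_conj_of_charpoly_eq p A ctA⁻¹ hk (Units.pow_ofPowEqOne hMk hk0) hctk hchar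
    obtain ⟨c, hcu⟩ := CfsgLib.Conj.exists_unitary_similar φ hφ ⟨w, hw'⟩ A S (by
      have : ctA * S * A = S := by rw [mul_assoc, hS, mul_inv_cancel_left]
      exact congrArg Units.val this)
    have hcP : ((c * A * c⁻¹ : GL (Fin n) K) : Matrix (Fin n) (Fin n) K).charpoly = polyOfTuple v :=
      (charpoly_conj_GL c A).trans hMP
    have hdet : ((c * A * c⁻¹ : GL (Fin n) K) : Matrix (Fin n) (Fin n) K).det = 1 := by
      rw [det_eq_sign_charpoly_coeff, hcP, h0, Fintype.card_fin, ← mul_pow]; simp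
    refine ⟨⟨⟨_, hdet⟩, (CfsgLib.Conj.mem_GU_iff φ hφq hφ (c * A * c⁻¹)).2 hcu⟩, ?_, ?_⟩
    · refine coprime_of_pow_eq_one (F := K) p _ hk (Subtype.ext (Subtype.ext ?_))
      simp only [SubmonoidClass.coe_pow, Matrix.SpecialLinearGroup.coe_pow]
      show ((c * A * c⁻¹ : GL (Fin n) K) : Matrix (Fin n) (Fin n) K) ^ k = _
      rw [← Units.val_pow_eq_pow_val, conj_pow, Units.pow_ofPowEqOne hMk hk0, mul_one, mul_inv_cancel]
      rfl
    · refine Subtype.ext (funext fun a => ?_)
      show (-1) ^ ((a : ℕ) + 1) * ((c * A * c⁻¹ : GL (Fin n) K) : Matrix (Fin n) (Fin n) K).charpoly.coeff _ = d.1 a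
      rw [hcP]
      have e1 : (polyOfTuple v).coeff (n - ((a : ℕ) + 1)) = _ := hc ⟨n - ((a : ℕ) + 1), by omega⟩
      rw [e1]
      simp only [v]
      rw [dif_neg (by omega), ← mul_assoc, ← pow_add, Even.neg_one_pow ⟨(a : ℕ) + 1, by omega⟩, one_mul]
      exact congrArg d.1 (Fin.ext (by simp only []; omega))

end CfsgLib.Semisimple
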